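import Mathlib

/-! Congruence subgroups of `GL_n` over the `p`-adic numbers and their eigenvalues. -/

set_option autoImplicit false

open Polynomial Matrix

namespace Groth.Agent.Mono38

variable {p : ℕ} [hp : Fact p.Prime] {n : ℕ}

/-- `p⁻ᵏ`. -/
noncomputable def eps (p k : ℕ) : ℝ := ((p : ℝ)⁻¹) ^ k

theorem eps_pos (k : ℕ) : 0 < eps p k := pow_pos (inv_pos.2 (by exact_mod_cast hp.out.pos)) k

theorem eps_le_one (k : ℕ) : eps p k ≤ 1 :=
  pow_le_one₀ (inv_nonneg.2 (Nat.cast_nonneg p)) (inv_le_one_of_one_le₀ (by exact_mod_cast hp.out.one_lt.le))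

theorem eps_anti {k l : ℕ} (h : k ≤ l) : eps p l ≤ eps p k :=
  pow_le_pow_of_le_one (inv_nonneg.2 (Nat.cast_nonneg p))
    (inv_le_one_of_one_le₀ (by exact_mod_cast hp.out.one_lt.le)) h

theorem eps_mul (k l : ℕ) : eps p k * eps p l = eps p (k + l) := (pow_add _ _ _).symm

theorem exists_eps_lt {δ : ℝ} (hδ : 0 < δ) : ∃ k, eps p k < δ :=
  exists_pow_lt_of_lt_one hδ (inv_lt_one_of_one_lt₀ (by exact_mod_cast hp.out.one_lt))

/-- All entries have norm at most `ε`. -/
def Small {F : Type*} [Norm F] (ε : ℝ) (M : Matrix (Fin n) (Fin n) F) : Prop := ∀ i j, ‖M i j‖ ≤ ε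

variable {F : Type*} [NormedField F] [IsUltrametricDist F] {a b : ℝ} {M N : Matrix (Fin n) (Fin n) F}

theorem Small.mono (h : Small a M) (hab : a ≤ b) : Small b M := fun i j => (h i j).trans hab

theorem Small.add (h : Small a M) (h' : Small a N) : Small a (M + N) := fun i j =>
  (IsUltrametricDist.norm_add_le_max _ _).trans (max_le (h i j) (h' i j))

theorem Small.mul (ha : 0 ≤ a) (hb : 0 ≤ b) (h : Small a M) (h' : Small b N) : Small (a * b) (M * N) := fun i j => by
  rw [Matrix.mul_apply]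
  refine IsUltrametricDist.norm_sum_le_of_forall_le_of_nonneg (mul_nonneg ha hb) fun l _ => ?_
  rw [norm_mul]
  exact mul_le_mul (h i l) (h' l j) (norm_nonneg _) ha

theorem small_one : Small 1 (1 : Matrix (Fin n) (Fin n) F) := fun i j => by
  rw [Matrix.one_apply]; split <;> simp

theorem Small.mul_sub_one (ha : 0 ≤ a) (ha1 : a ≤ 1) (h : Small a (M - 1)) (h' : Small a (N - 1)) :
    Small a (M * N - 1) := by
  rw [show M * N - 1 = (M - 1) * (N - 1) + (M - 1) + (N - 1) by noncomm_ring]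
  exact (((h.mul ha ha h').mono (mul_le_of_le_one_right ha ha1)).add h).add h'

theorem Small.pow_sub_one (ha : 0 ≤ a) (ha1 : a ≤ 1) (h : Small a (M - 1)) (i : ℕ) : Small a (M ^ i - 1) := by
  induction i with
  | zero => intro i j; simpa using ha
  | succ i ih => rw [pow_succ]; exact ih.mul_sub_one ha ha1 h

theorem Small.of_sub_one (ha1 : a ≤ 1) (h : Small a (M - 1)) : Small 1 M := by
  have := (h.mono ha1).add small_one
  rwa [sub_add_cancel] at this

variable (p n) in
/-- The congruence subgroup of level `k`. -/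
def cong (k : ℕ) : Subgroup (Matrix.GeneralLinearGroup (Fin n) (Padic p)) where
  carrier := {g : Matrix.GeneralLinearGroup (Fin n) (Padic p) | Small (eps p k) ((g : Matrix (Fin n) (Fin n) (Padic p)) - 1) ∧
    Small (eps p k) (((g⁻¹ : Matrix.GeneralLinearGroup (Fin n) (Padic p)) : Matrix (Fin n) (Fin n) (Padic p)) - 1)}
  one_mem' := by constructor <;> intro i j <;> simpa using (eps_pos (p := p) k).le
  mul_mem' := fun {g h} hg hh => by
    constructor
    · rw [Units.val_mul]; exact hg.1.mul_sub_one (eps_pos k).le (eps_le_one k) hh.1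
    · rw [_root_.mul_inv_rev, Units.val_mul]; exact hh.2.mul_sub_one (eps_pos k).le (eps_le_one k) hg.2
  inv_mem' := fun {g} hg => ⟨hg.2, by rw [inv_inv]; exact hg.1⟩

theorem isOpen_cong (k : ℕ) : IsOpen (cong p n k : Set (Matrix.GeneralLinearGroup (Fin n) (Padic p))) := by
  have hb : ∀ (i j : Fin n) (f : Matrix.GeneralLinearGroup (Fin n) (Padic p) → Matrix (Fin n) (Fin n) (Padic p)),
      Continuous f → IsOpen {g | ‖(f g - 1) i j‖ ≤ eps p k} := fun i j f hf => by
    have hc : Continuous fun g => (f g - 1) i j := ((hf.sub continuous_const).matrix_elem i j)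
    have := (IsUltrametricDist.isOpen_closedBall (0 : Padic p) (eps_pos (p := p) k).ne').preimage hc
    simpa [Set.preimage, Metric.mem_closedBall, dist_zero_right] using this
  have : (cong p n k : Set (Matrix.GeneralLinearGroup (Fin n) (Padic p))) =
      ⋂ i, ⋂ j, ({g : Matrix.GeneralLinearGroup (Fin n) (Padic p) | ‖((g : Matrix (Fin n) (Fin n) (Padic p)) - 1) i j‖ ≤ eps p k} ∩
        {g : Matrix.GeneralLinearGroup (Fin n) (Padic p) | ‖(((g⁻¹ : Matrix.GeneralLinearGroup (Fin n) (Padic p)) : Matrix (Fin n) (Fin n) (Padic p)) - 1) i j‖ ≤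
          eps p k}) := by
    ext g
    simp only [Set.mem_iInter, Set.mem_inter_iff, Set.mem_ofPred_eq]
    exact ⟨fun h i j => ⟨h.1 i j, h.2 i j⟩, fun h => ⟨fun i j => (h i j).1, fun i j => (h i j).2⟩⟩
  rw [this]
  exact isOpen_iInter_of_finite fun i => isOpen_iInter_of_finite fun j =>
    (hb i j _ Units.continuous_val).inter (hb i j _ Units.continuous_coe_inv)

theorem cong_pow {k : ℕ} (hk : 1 ≤ k) {g : Matrix.GeneralLinearGroup (Fin n) (Padic p)} (hg : g ∈ cong p n k) :
    g ^ p ∈ cong p n (k + 1) := by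
  have key : ∀ M : Matrix (Fin n) (Fin n) (Padic p), Small (eps p k) (M - 1) → Small (eps p (k + 1)) (M ^ p - 1) := by
    intro M h
    rw [← geom_sum_mul, add_comm k 1, ← eps_mul]
    refine Small.mul (eps_pos 1).le (eps_pos k).le ?_ h
    rw [show ∑ i ∈ Finset.range p, M ^ i = (p : Matrix (Fin n) (Fin n) (Padic p)) + ∑ i ∈ Finset.range p, (M ^ i - 1) by
      simp [Finset.sum_sub_distrib]]
    refine Small.add (fun i j => ?_) fun i j => ?_
    · rcases eq_or_ne i j with rfl | h'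
      · simp [Matrix.natCast_apply, eps]
      · simpa [Matrix.natCast_apply, h'] using (eps_pos 1).le
    · rw [Matrix.sum_apply]
      exact IsUltrametricDist.norm_sum_le_of_forall_le_of_nonneg (eps_pos 1).le fun l _ =>
        ((h.pow_sub_one (eps_pos k).le (eps_le_one k) l).mono (eps_anti hk)) i j
  refine ⟨?_, ?_⟩
  · rw [Units.val_pow_eq_pow_val]; exact key _ hg.1
  · rw [← inv_pow, Units.val_pow_eq_pow_val]; exact key _ hg.2

theorem cong_pow_pow {g : Matrix.GeneralLinearGroup (Fin n) (Padic p)} (hg : g ∈ cong p n 1) (m : ℕ) :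
    g ^ p ^ m ∈ cong p n (m + 1) := by
  induction m with
  | zero => simpa using hg
  | succ m ih => rw [pow_succ, pow_mul]; exact cong_pow (by omega) ih

theorem norm_prod_add_sub {ι : Type*} (s : Finset ι) (f e : ι → F) {ε : ℝ} (hε : 0 ≤ ε) (hε1 : ε ≤ 1)
    (hf : ∀ i ∈ s, ‖f i‖ ≤ 1) (he : ∀ i ∈ s, ‖e i‖ ≤ ε) : ‖∏ i ∈ s, (f i + e i) - ∏ i ∈ s, f i‖ ≤ ε := by
  classical
  induction s using Finset.induction_on with
  | empty => simpa using hε
  | @insert a s ha ih =>
    rw [Finset.prod_insert ha, Finset.prod_insert ha]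
    have hs : ‖∏ i ∈ s, (f i + e i)‖ ≤ 1 := by
      rw [norm_prod]
      exact Finset.prod_le_one (fun i _ => norm_nonneg _) fun i hi =>
        (IsUltrametricDist.norm_add_le_max _ _).trans (max_le (hf i (Finset.mem_insert_of_mem hi))
          ((he i (Finset.mem_insert_of_mem hi)).trans hε1))
    rw [show (f a + e a) * ∏ i ∈ s, (f i + e i) - f a * ∏ i ∈ s, f i =
      f a * (∏ i ∈ s, (f i + e i) - ∏ i ∈ s, f i) + e a * ∏ i ∈ s, (f i + e i) by ring]
    refine (IsUltrametricDist.norm_add_le_max _ _).trans (max_le ?_ ?_) <;> rw [norm_mul]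
    · exact (mul_le_of_le_one_left (norm_nonneg _) (hf a (Finset.mem_insert_self _ _))).trans
        (ih (fun i hi => hf i (Finset.mem_insert_of_mem hi)) fun i hi => he i (Finset.mem_insert_of_mem hi))
    · exact (mul_le_of_le_one_right (norm_nonneg _) hs).trans (he a (Finset.mem_insert_self _ _))

theorem norm_det_le {ε : ℝ} (hε : 0 ≤ ε) (hε1 : ε ≤ 1) {X E : Matrix (Fin n) (Fin n) F} (hX : Small 1 X)
    (hE : Small ε E) (h0 : X.det = 0) : ‖(X + E).det‖ ≤ ε := by
  have : (X + E).det = ∑ σ : Equiv.Perm (Fin n), Equiv.Perm.sign σ •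
      (∏ i, (X (σ i) i + E (σ i) i) - ∏ i, X (σ i) i) := by
    simp only [smul_sub, Finset.sum_sub_distrib, ← Matrix.det_apply, h0, sub_zero]
    rw [Matrix.det_apply]; rfl
  rw [this]
  refine IsUltrametricDist.norm_sum_le_of_forall_le_of_nonneg hε fun σ _ => ?_
  have := norm_prod_add_sub Finset.univ (fun i => X (σ i) i) (fun i => E (σ i) i) hε hε1 (fun i _ => hX _ _) fun i _ => hE _ _
  rcases Int.units_eq_one_or (Equiv.Perm.sign σ) with h | h <;> rw [h] <;> simpa [norm_sub_rev] using this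

/-- Eigenvalues of a matrix congruent to `1` are congruent to `1`. -/
theorem norm_eigen_sub_one {ε : ℝ} (hε : 0 ≤ ε) (h : Small ε (M - 1)) {x : F}
    (hx : (scalar (Fin n) x - M).det = 0) : ‖x - 1‖ ≤ ε := by
  obtain ⟨v, hv0, hv⟩ := Matrix.exists_mulVec_eq_zero_iff.2 hx
  have hne : Nonempty (Fin n) := by
    by_contra hn
    exact hv0 (funext fun i => absurd ⟨i⟩ hn)
  obtain ⟨i, -, hi⟩ := Finset.exists_max_image Finset.univ (fun i => ‖v i‖) Finset.univ_nonempty
  have hvi : 0 < ‖v i‖ := by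
    obtain ⟨j, hj⟩ := Function.ne_iff.1 hv0
    exact lt_of_lt_of_le (norm_pos_iff.2 hj) (hi j (Finset.mem_univ _))
  have h1 : (x - 1) * v i = ∑ j, (M - 1) i j * v j := by
    have := congrFun hv i
    rw [Matrix.sub_mulVec, Pi.sub_apply, Pi.zero_apply, sub_eq_zero, scalar_apply, Matrix.mulVec_diagonal] at this
    show _ = ((M - 1) *ᵥ v) i
    rw [Matrix.sub_mulVec, Pi.sub_apply, Matrix.one_mulVec, sub_mul, this, one_mul]
  have h2 : ‖x - 1‖ * ‖v i‖ ≤ ε * ‖v i‖ := by
    rw [← norm_mul, h1]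
    refine IsUltrametricDist.norm_sum_le_of_forall_le_of_nonneg (mul_nonneg hε (norm_nonneg _)) fun j _ => ?_
    rw [norm_mul]
    exact mul_le_mul (h i j) (hi j (Finset.mem_univ _)) (norm_nonneg _) hε
  exact le_of_mul_le_mul_right h2 hvi

omit [IsUltrametricDist F] in
theorem det_pow_eq_zero {x : F} (hx : (scalar (Fin n) x - M).det = 0) (a : ℕ) :
    (scalar (Fin n) (x ^ a) - M ^ a).det = 0 := by
  obtain ⟨c, hc⟩ := (Matrix.scalar_commute x (fun _ => Commute.all _ _) M).sub_dvd_pow_sub_pow a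
  rw [map_pow, hc, Matrix.det_mul, hx, zero_mul]

theorem norm_zpow_sub_one {z : F} (hz : ‖z - 1‖ < 1) (w : ℤ) : ‖z ^ w - 1‖ ≤ ‖z - 1‖ := by
  have h1 : ∀ y : F, ‖y - 1‖ < 1 → ‖y‖ = 1 := fun y hy => by
    have := IsUltrametricDist.norm_add_eq_max_of_norm_ne_norm (x := y - 1) (y := (1 : F)) (by rw [norm_one]; exact hy.ne)
    rwa [sub_add_cancel, norm_one, max_eq_right hy.le] at this
  have hn : ∀ m : ℕ, ‖z ^ m - 1‖ ≤ ‖z - 1‖ := fun m => by
    induction m with
    | zero => simp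
    | succ m ih =>
      rw [show z ^ (m + 1) - 1 = z * (z ^ m - 1) + (z - 1) by ring]
      refine (IsUltrametricDist.norm_add_le_max _ _).trans (max_le ?_ le_rfl)
      rw [norm_mul, h1 z hz, one_mul]; exact ih
  obtain ⟨m, rfl | rfl⟩ := Int.eq_nat_or_neg w
  · rw [zpow_natCast]; exact hn m
  · rw [_root_.zpow_neg, zpow_natCast]
    have hm : ‖z ^ m‖ = 1 := by rw [norm_pow, h1 z hz, one_pow]
    have h0 : z ^ m ≠ 0 := norm_ne_zero_iff.1 (by rw [hm]; exact one_ne_zero)
    rw [show (z ^ m)⁻¹ - 1 = (1 - z ^ m) * (z ^ m)⁻¹ by rw [sub_mul, mul_inv_cancel₀ h0, one_mul],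
      norm_mul, norm_inv, hm, inv_one, mul_one, norm_sub_rev]
    exact hn m

/-- A `p`-adic eigenvalue argument: if the spectrum of `M` is stable under `x ↦ x ^ (c ^ i)`, then every
eigenvalue is a root of unity of order dividing `p ^ V`. -/
theorem eigen_pow_eq_one (V : ℕ) (e : ℕ → ℕ → ℕ)
    (hV : ∀ k i₁ i₂, V ≤ k → i₁ < i₂ → i₂ ≤ n → ((e i₂ k : ℕ) : ZMod (p ^ V)) ≠ (e i₁ k : ZMod (p ^ V)))
    (g : Matrix.GeneralLinearGroup (Fin n) (Padic p)) (hg : g ∈ cong p n 1)
    (hconj : ∀ i k : ℕ, ∃ γ h : Matrix.GeneralLinearGroup (Fin n) (Padic p), h ∈ cong p n (k + 1) ∧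
      γ * g * γ⁻¹ = g ^ e i k * h)
    [IsAlgClosed F] (φ : Padic p →+* F) (hnorm : ∀ y : Padic p, ‖φ y‖ = ‖y‖)
    (x : F) (hx : ((g : Matrix (Fin n) (Fin n) (Padic p)).charpoly.map φ).IsRoot x) : x ^ p ^ V = 1 := by
  classical
  have hsm : ∀ {ε : ℝ} {A : Matrix (Fin n) (Fin n) (Padic p)}, Small ε A → Small ε (A.map φ) := fun h i j => by
    rw [Matrix.map_apply, hnorm]; exact h i j
  set M := (g : Matrix (Fin n) (Fin n) (Padic p)).map φ with hM
  have hM1 : Small (eps p 1) (M - 1) := by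
    have := hsm hg.1
    rwa [Matrix.map_sub _ (map_sub φ), Matrix.map_one _ (map_zero φ) (map_one φ)] at this
  have hev : ∀ y, ((g : Matrix (Fin n) (Fin n) (Padic p)).charpoly.map φ).eval y = (scalar (Fin n) y - M).det := by
    intro y; rw [hM, ← Matrix.charpoly_map, Matrix.eval_charpoly]
  have hx' : (scalar (Fin n) x - M).det = 0 := (hev x).symm.trans hx
  have hx1 : ‖x - 1‖ < 1 := (norm_eigen_sub_one (eps_pos 1).le hM1 hx').trans_lt (by
    have := hp.out.one_lt
    simpa [eps] using inv_lt_one_of_one_lt₀ (by exact_mod_cast this : (1 : ℝ) < p))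
  have hx0 : x ≠ 0 := fun h => by simp [h] at hx1
  have hpk : ∀ k, ‖x ^ p ^ k - 1‖ ≤ eps p k := fun k => by
    refine (norm_eigen_sub_one (eps_pos (k + 1)).le ?_ (det_pow_eq_zero hx' (p ^ k))).trans (eps_anti (Nat.le_succ k))
    have := hsm (cong_pow_pow hg k).1
    rwa [Matrix.map_sub _ (map_sub φ), Matrix.map_one _ (map_zero φ) (map_one φ), Units.val_pow_eq_pow_val,
      Matrix.map_pow] at this
  let P := (g : Matrix (Fin n) (Fin n) (Padic p)).charpoly.map φ
  have hPm : P.Monic := (Matrix.charpoly_monic _).map _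
  have hPd : P.natDegree = n := by
    rw [(Matrix.charpoly_monic _).natDegree_map, Matrix.charpoly_natDegree_eq_dim, Fintype.card_fin]
  have hsplit : P.Splits := IsAlgClosed.splits P
  -- powers of `x` are close to roots
  have happrox : ∀ i k : ℕ, ‖P.eval (x ^ (e i k))‖ ≤ eps p (k + 1) := by
    intro i k
    obtain ⟨γ, h, hh, he⟩ := hconj i k
    set a := (e i k)
    have hcp : ((γ * g * γ⁻¹ : Matrix.GeneralLinearGroup (Fin n) (Padic p)) : Matrix (Fin n) (Fin n) (Padic p)).charpoly =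
        (g : Matrix (Fin n) (Fin n) (Padic p)).charpoly := by
      rw [Units.val_mul, Units.val_mul, Matrix.charpoly_mul_comm, ← _root_.mul_assoc, Units.inv_mul, _root_.one_mul]
    show ‖((g : Matrix (Fin n) (Fin n) (Padic p)).charpoly.map φ).eval _‖ ≤ _
    rw [← hcp, he, Units.val_mul, Units.val_pow_eq_pow_val, ← Matrix.charpoly_map, Matrix.eval_charpoly,
      Matrix.map_mul, Matrix.map_pow, ← hM,
      show scalar (Fin n) (x ^ a) - M ^ a * (h : Matrix (Fin n) (Fin n) (Padic p)).map φ =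
        (scalar (Fin n) (x ^ a) - M ^ a) + -(M ^ a * ((h : Matrix (Fin n) (Fin n) (Padic p)).map φ - 1)) by
        noncomm_ring]
    have hMa : Small 1 (M ^ a) := (hM1.pow_sub_one (eps_pos 1).le (eps_le_one 1) a).of_sub_one (eps_le_one 1)
    refine norm_det_le (eps_pos _).le (eps_le_one _) ?_ ?_ (det_pow_eq_zero hx' a)
    · rw [sub_eq_add_neg]
      refine Small.add (fun r s => ?_) (fun r s => by rw [Matrix.neg_apply, norm_neg]; exact hMa r s)
      rw [scalar_apply, Matrix.diagonal_apply]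
      split
      · rw [norm_pow]
        refine pow_le_one₀ (norm_nonneg _) ?_
        have := IsUltrametricDist.norm_add_le_max (x - 1) (1 : F)
        rw [sub_add_cancel, norm_one, max_eq_right hx1.le] at this
        exact this
      · simp
    · intro r s
      rw [Matrix.neg_apply, norm_neg]
      have := hsm hh.1
      rw [Matrix.map_sub _ (map_sub φ), Matrix.map_one _ (map_zero φ) (map_one φ)] at this
      simpa using (hMa.mul zero_le_one (eps_pos _).le this) r s
  refine sub_eq_zero.1 (norm_le_zero_iff.1 (le_of_forall_pos_lt_add fun δ hδ => ?_))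
  rw [zero_add]
  set δ' := min δ (1 : ℝ)
  have hδ' : 0 < δ' := lt_min hδ one_pos
  obtain ⟨k₀, hk₀⟩ := exists_eps_lt (p := p) (pow_pos hδ' (n + 1))
  set k := max k₀ V
  have hroot : ∀ i : ℕ, ∃ y ∈ P.roots, ‖x ^ (e i k) - y‖ < δ' := by
    intro i
    by_contra! hcon
    have hle := happrox i k
    rw [hsplit.eval_eq_prod_roots_of_monic hPm] at hle
    have : δ' ^ n ≤ ‖(P.roots.map fun y => x ^ (e i k) - y).prod‖ := by
      rw [← hPd, hsplit.natDegree_eq_card_roots, ← Multiset.prod_replicate, ← Multiset.map_const',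
        show ‖(P.roots.map fun y => x ^ (e i k) - y).prod‖ =
          (P.roots.map fun y => ‖x ^ (e i k) - y‖).prod by
          rw [← normHom_apply, map_multiset_prod, Multiset.map_map]; rfl]
      exact Multiset.prod_map_le_prod_map₀ _ _ (fun _ _ => hδ'.le) hcon
    refine absurd (this.trans hle) (not_le.2 ?_)
    refine lt_of_le_of_lt ?_ (hk₀.trans_le (pow_le_pow_of_le_one hδ'.le (min_le_right _ _) (Nat.le_succ n)))
    exact eps_anti (by omega)
  choose y hy hyd using hroot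
  obtain ⟨i₁, hi₁, i₂, hi₂, hne, heq⟩ := Finset.exists_ne_map_eq_of_card_lt_of_maps_to
    (s := Finset.range (n + 1)) (t := P.roots.toFinset) (f := y) (by
      rw [Finset.card_range]
      have := Multiset.toFinset_card_le P.roots
      have := P.card_roots'
      omega)
    (fun i _ => Multiset.mem_toFinset.2 (hy i))
  wlog hlt : i₁ < i₂ generalizing i₁ i₂
  · exact this i₂ hi₂ i₁ hi₁ hne.symm heq.symm (by omega)
  set a₁ := e i₁ k with ha₁
  set a₂ := e i₂ k with ha₂
  set d : ℤ := (a₂ : ℤ) - a₁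
  have hnd : ¬ ((p ^ V : ℕ) : ℤ) ∣ d := by
    rw [← ZMod.intCast_zmod_eq_zero_iff_dvd]
    intro h0
    rw [Int.cast_sub, Int.cast_natCast, Int.cast_natCast, ha₁, ha₂, sub_eq_zero] at h0
    exact hV k i₁ i₂ (le_max_right _ _) hlt (by have := Finset.mem_range.1 hi₂; omega) h0
  obtain ⟨i, hi, hgcd⟩ := (Nat.dvd_prime_pow hp.out).1 (Nat.gcd_dvd_right d.natAbs (p ^ k))
  have hiV : i < V := by
    by_contra hiV
    exact hnd (Int.natCast_dvd.2 ((pow_dvd_pow p (not_lt.1 hiV)).trans (hgcd ▸ Nat.gcd_dvd_left _ _)))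
  obtain ⟨w, t, hwt⟩ : ∃ w t : ℤ, ((p ^ V : ℕ) : ℤ) = d * w + ((p ^ k : ℕ) : ℤ) * t := by
    have hb : (Int.gcd d (p ^ k : ℕ) : ℤ) ∣ ((p ^ V : ℕ) : ℤ) := by
      rw [show Int.gcd d ((p ^ k : ℕ) : ℤ) = Nat.gcd d.natAbs (p ^ k) from rfl, hgcd]; exact Int.natCast_dvd_natCast.2 (pow_dvd_pow p hiV.le)
    obtain ⟨e, he⟩ := hb
    exact ⟨Int.gcdA d (p ^ k : ℕ) * e, Int.gcdB d (p ^ k : ℕ) * e, by rw [he, Int.gcd_eq_gcd_ab]; ring⟩
  have hxn : ‖x‖ = 1 := by
    have := IsUltrametricDist.norm_add_eq_max_of_norm_ne_norm (x := x - 1) (y := (1 : F))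
      (by rw [norm_one]; exact hx1.ne)
    rwa [sub_add_cancel, norm_one, max_eq_right hx1.le] at this
  have hd : ‖x ^ d - 1‖ < δ' := by
    have h3 : ‖x ^ a₂ - x ^ a₁‖ < δ' := by
      rw [show x ^ a₂ - x ^ a₁ = (x ^ a₂ - y i₂) + (y i₂ - x ^ a₁) by ring]
      refine (IsUltrametricDist.norm_add_le_max _ _).trans_lt (max_lt (hyd i₂) ?_)
      rw [← heq, norm_sub_rev]; exact hyd i₁
    calc ‖x ^ d - 1‖ = ‖x ^ a₁‖ * ‖x ^ d - 1‖ := by rw [norm_pow, hxn, one_pow, one_mul]
      _ = ‖x ^ a₂ - x ^ a₁‖ := by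
        rw [← norm_mul, mul_sub, mul_one, ← zpow_natCast x a₁, ← zpow_add₀ hx0, ← zpow_natCast x a₂]
        simp [d]
      _ < δ' := h3
  have hkδ : ‖x ^ ((p ^ k : ℕ) : ℤ) - 1‖ < δ' := by
    rw [zpow_natCast]
    exact ((hpk k).trans (eps_anti (le_max_left _ _))).trans_lt
      (hk₀.trans_le (pow_le_of_le_one hδ'.le (min_le_right _ _) (by omega)))
  refine lt_of_lt_of_le ?_ (min_le_left δ 1)
  rw [← zpow_natCast, hwt, zpow_add₀ hx0, _root_.zpow_mul, _root_.zpow_mul,
    show (x ^ d) ^ w * (x ^ ((p ^ k : ℕ) : ℤ)) ^ t - 1 =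
      ((x ^ d) ^ w - 1) * (x ^ ((p ^ k : ℕ) : ℤ)) ^ t + ((x ^ ((p ^ k : ℕ) : ℤ)) ^ t - 1) by ring]
  refine (IsUltrametricDist.norm_add_le_max _ _).trans_lt (max_lt ?_ ?_)
  · rw [norm_mul, norm_zpow, norm_zpow, hxn]
    simp only [_root_.one_zpow, _root_.mul_one]
    exact (norm_zpow_sub_one (hd.trans_le (min_le_right _ _)) w).trans_lt hd
  · exact (norm_zpow_sub_one (hkδ.trans_le (min_le_right _ _)) t).trans_lt hkδ

omit [IsUltrametricDist F] in
theorem isNilpotent_sub_one [IsAlgClosed F] (φ : Padic p →+* F) (g : Matrix (Fin n) (Fin n) (Padic p))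
    (h : ∀ x : F, (g.charpoly.map φ).IsRoot x → x = 1) :
    IsNilpotent (g - 1) := by
  have hm : g.charpoly = (X - 1) ^ n := by
    refine Polynomial.map_injective _ φ.injective ?_
    set P := g.charpoly.map φ
    have hPm : P.Monic := (Matrix.charpoly_monic _).map _
    have hs : P.Splits := IsAlgClosed.splits P
    rw [hs.eq_prod_roots_of_monic hPm,
      Multiset.eq_replicate_card.2 (fun y hy => h y (Polynomial.isRoot_of_mem_roots hy)), Multiset.map_replicate,
      Multiset.prod_replicate, ← hs.natDegree_eq_card_roots, (Matrix.charpoly_monic _).natDegree_map,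
      Matrix.charpoly_natDegree_eq_dim, Fintype.card_fin]
    simp
  refine ⟨n, ?_⟩
  simpa [hm] using Matrix.aeval_self_charpoly g

end Groth.Agent.Mono38
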