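import Groth.Agent.Mono38.Inertia
import Groth.Agent.Mono38.Padic

/-! Continuous `ℓ`-adic representations restricted to inertia. -/

set_option autoImplicit false
universe u

open IsLocalRing Polynomial

namespace Groth.Agent.Mono38

variable {R K Ω : Type u} [CommRing R] [IsDomain R] [IsDiscreteValuationRing R] [HenselianLocalRing R]
  [Field K] [Algebra R K] [IsFractionRing R K] [Field Ω] [Algebra K Ω] [IsSepClosure K Ω]
  [Algebra R Ω] [IsScalarTower R K Ω]
  {W : ValuationSubring Ω} (hW : SGA7.LiesOver K R W)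
  {lam : ℕ} [hl : Fact lam.Prime] (hlam : (lam : ResidueField R) ≠ 0)

include hW hlam in
omit [HenselianLocalRing R] [IsSepClosure K Ω] in
theorem val_lam : W.valuation (lam : Ω) = 1 := by
  have hu : IsUnit (lam : R) := by rw [← residue_ne_zero_iff_isUnit, map_natCast]; exact hlam
  obtain ⟨v, hv⟩ := hu.exists_left_inv
  have h1 : W.valuation (algebraMap R Ω v) * W.valuation (lam : Ω) = 1 := by
    rw [← map_mul, ← map_natCast (algebraMap R Ω), ← map_mul, hv, map_one, map_one]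
  have h2 : W.valuation (algebraMap R Ω v) ≤ 1 := (W.valuation_le_one_iff _).2 (by
    rw [IsScalarTower.algebraMap_apply R K Ω]; exact hW.1 v)
  refine le_antisymm ((W.valuation_le_one_iff _).2 (natCast_mem W lam)) ?_
  rw [← h1]; exact mul_le_of_le_one_left' h2

include hW hlam in
omit [HenselianLocalRing R] [IsSepClosure K Ω] in
theorem lam_ne_zero : (lam : Ω) ≠ 0 := fun h => by simpa [h] using val_lam hW hlam

include hW hlam in
omit [HenselianLocalRing R] in
theorem exists_primitive (k : ℕ) : ∃ ζ : Ω, IsPrimitiveRoot ζ (lam ^ k) := by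
  haveI : IsSepClosed Ω := IsSepClosure.sep_closed K
  haveI : NeZero (lam : Ω) := ⟨lam_ne_zero hW hlam⟩
  haveI : NeZero ((lam ^ k : ℕ) : Ω) := ⟨by push_cast; exact pow_ne_zero _ (NeZero.ne _)⟩
  exact HasEnoughRootsOfUnity.exists_primitiveRoot Ω (lam ^ k)

/-- The cyclotomic exponent of `τ` at level `k`. -/
noncomputable def expo (lam : ℕ) [Fact lam.Prime] (τ : Ω ≃ₐ[K] Ω) (k : ℕ) : ℕ :=
  (PadicInt.toZModPow k (cyclotomicCharacter Ω lam τ.toRingEquiv : ℤ_[lam])).val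

include hW hlam in
omit [HenselianLocalRing R] in
theorem expo_spec (τ : Ω ≃ₐ[K] Ω) (k : ℕ) {z : Ω} (hz : z ^ lam ^ k = 1) : τ z = z ^ expo lam τ k := by
  haveI : IsSepClosed Ω := IsSepClosure.sep_closed K
  haveI : NeZero (lam : Ω) := ⟨lam_ne_zero hW hlam⟩
  haveI : ∀ i, HasEnoughRootsOfUnity Ω (lam ^ i) := fun i => by
    haveI : NeZero ((lam ^ i : ℕ) : Ω) := ⟨by push_cast; exact pow_ne_zero _ (NeZero.ne _)⟩
    infer_instance
  exact cyclotomicCharacter.spec lam τ.toRingEquiv z hz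

omit [IsDomain R] [IsDiscreteValuationRing R] [HenselianLocalRing R] [IsSepClosure K Ω] in
theorem expo_pow (τ : Ω ≃ₐ[K] Ω) (i k : ℕ) : expo lam (τ ^ i) k =
    (PadicInt.toZModPow k ((cyclotomicCharacter Ω lam τ.toRingEquiv : ℤ_[lam]) ^ i)).val := by
  have h : (τ ^ i).toRingEquiv = τ.toRingEquiv ^ i := by
    induction i with
    | zero => rfl
    | succ i ih => rw [pow_succ, pow_succ, ← ih]; rfl
  rw [expo, h, map_pow (cyclotomicCharacter Ω lam), Units.val_pow_eq_pow_val]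

include hW hlam in
/-- Some automorphism moves roots of unity by a character of large order. -/
theorem exists_char_pow_ne_one (hstar : ∀ (k' : Type u) [Field k'] [Algebra (ResidueField R) k'],
      FiniteDimensional (ResidueField R) k' → ∃ m : ℕ, ∀ ζ : k', ¬ IsPrimitiveRoot ζ (lam ^ m))
    (M : ℕ) (hM : M ≠ 0) :
    ∃ τ : Ω ≃ₐ[K] Ω, (cyclotomicCharacter Ω lam τ.toRingEquiv : ℤ_[lam]) ^ M ≠ 1 := by
  classical
  by_contra! hcon
  let χ : (Ω ≃ₐ[K] Ω) → ℤ_[lam] := fun τ => cyclotomicCharacter Ω lam τ.toRingEquiv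
  let S : Finset ℤ_[lam] := (Polynomial.nthRoots M (1 : ℤ_[lam])).toFinset.erase 1
  have hsep : ∀ u ∈ S, ∃ m, PadicInt.toZModPow m u ≠ 1 := fun u hu => by
    by_contra! h
    exact (Finset.mem_erase.1 hu).1 (PadicInt.ext_of_toZModPow.1 fun m => by rw [h m, map_one])
  choose! mu hmu using hsep
  let m0 := S.sup mu
  obtain ⟨ζ₀, hζ₀⟩ := exists_primitive (R := R) (K := K) hW hlam m0
  let L : IntermediateField K Ω := IntermediateField.adjoin K {ζ₀}
  haveI : IsGalois K Ω := inferInstance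
  have hL : ∀ z : Ω, ∀ m, z ^ lam ^ m = 1 → z ∈ L := by
    intro z m hz
    rw [← InfiniteGalois.fixedField_fixingSubgroup L, IntermediateField.mem_fixedField_iff]
    intro τ hτ
    have h0 : τ ζ₀ = ζ₀ :=
      (IntermediateField.mem_fixingSubgroup_iff _ _).1 hτ _ (IntermediateField.mem_adjoin_simple_self K ζ₀)
    haveI : NeZero (lam ^ m0) := ⟨pow_ne_zero _ hl.out.ne_zero⟩
    have h1 : PadicInt.toZModPow m0 (χ τ) = 1 := by
      have h2 := expo_spec (R := R) hW hlam τ m0 hζ₀.pow_eq_one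
      rw [h0] at h2
      have h3 : expo lam τ m0 ≡ 1 [MOD lam ^ m0] := by
        have hfo : IsOfFinOrder ζ₀ := isOfFinOrder_iff_pow_eq_one.2 ⟨_, pow_pos hl.out.pos m0, hζ₀.pow_eq_one⟩
        rw [hζ₀.eq_orderOf, ← hfo.pow_eq_pow_iff_modEq, pow_one]
        exact h2.symm
      rw [← ZMod.natCast_eq_natCast_iff, Nat.cast_one] at h3
      rwa [expo, ZMod.natCast_zmod_val] at h3
    have h4 : χ τ = 1 := by
      by_contra hne
      have hmem : χ τ ∈ S := Finset.mem_erase.2 ⟨hne, Multiset.mem_toFinset.2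
        ((Polynomial.mem_nthRoots (Nat.pos_of_ne_zero hM)).2 (hcon τ))⟩
      refine hmu _ hmem ?_
      rw [← PadicInt.cast_toZModPow (mu (χ τ)) m0 (Finset.le_sup hmem), h1]
      exact ZMod.cast_one (pow_dvd_pow lam (Finset.le_sup hmem))
    rw [expo_spec (R := R) hW hlam τ m hz, expo, show (cyclotomicCharacter Ω lam τ.toRingEquiv : ℤ_[lam]) = 1 from h4,
      map_one]
    rcases Nat.eq_zero_or_pos m with rfl | hm
    · have hz1 : z = 1 := by simpa using hz
      simp [hz1]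
    · haveI : Fact (1 < lam ^ m) := ⟨Nat.one_lt_pow hm.ne' hl.out.one_lt⟩
      rw [ZMod.val_one, pow_one]
  haveI : FiniteDimensional K L :=
    IntermediateField.adjoin.finiteDimensional (Algebra.IsIntegral.isIntegral ζ₀)
  haveI : Algebra.IsSeparable K L := Algebra.isSeparable_tower_bot_of_isSeparable K L Ω
  let B := integralClosure R L
  haveI : Module.Finite R B := IsIntegralClosure.finite R K L B
  let f : B →+* W := (((algebraMap L Ω).comp B.val.toRingHom).codRestrict W.toSubring fun a =>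
    mem_of_isIntegral W hW (a.2.map (L.val.restrictScalars R)))
  let P : Ideal B := (maximalIdeal W).comap f
  haveI hP : P.IsPrime := Ideal.IsPrime.comap _
  have hPm : P.comap (algebraMap R B) = maximalIdeal R := by
    refine ((maximalIdeal.isMaximal R).eq_of_le (Ideal.comap_ne_top _ hP.ne_top) fun r hr => ?_).symm
    rw [Ideal.mem_comap, Ideal.mem_comap, ValuationSubring.valuation_lt_one_iff]
    show W.valuation (algebraMap L Ω (algebraMap R L r)) < 1
    rw [IsScalarTower.algebraMap_apply R K L, ← IsScalarTower.algebraMap_apply K L Ω]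
    exact hW.2 r hr
  haveI : P.IsMaximal := Ideal.isMaximal_of_isIntegral_of_isMaximal_comap (R := R) P
    (hPm ▸ maximalIdeal.isMaximal R)
  letI : Field (B ⧸ P) := Ideal.Quotient.field P
  letI : Algebra (ResidueField R) (B ⧸ P) :=
    (Ideal.quotientMap P (algebraMap R B) hPm.ge : (R ⧸ maximalIdeal R) →+* B ⧸ P).toAlgebra
  haveI : IsScalarTower R (ResidueField R) (B ⧸ P) := IsScalarTower.of_algebraMap_eq fun r => rfl
  haveI : Module.Finite R (B ⧸ P) := Module.Finite.of_surjective (Ideal.Quotient.mkₐ R P).toLinearMap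
    Ideal.Quotient.mk_surjective
  obtain ⟨m, hm⟩ := hstar (B ⧸ P) (Module.Finite.of_restrictScalars_finite R (ResidueField R) (B ⧸ P))
  obtain ⟨ζ, hζ⟩ := exists_primitive (R := R) (K := K) hW hlam m
  have hζL : ζ ∈ L := hL ζ m hζ.pow_eq_one
  have hζi : IsIntegral R (⟨ζ, hζL⟩ : L) := IsIntegral.of_pow (pow_pos hl.out.pos m)
    (by rw [show (⟨ζ, hζL⟩ : L) ^ lam ^ m = 1 from Subtype.ext hζ.pow_eq_one]; exact isIntegral_one)
  let z : B := ⟨_, hζi⟩
  let g : B ⧸ P →+* ResidueField W := Ideal.Quotient.lift P ((residue W).comp f) fun a ha =>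
    (residue_eq_zero_iff _).2 ha
  refine hm (Ideal.Quotient.mk P z) (IsPrimitiveRoot.of_map_of_injective (f := g) ?_ g.injective)
  exact residue_primitive hl.out (val_lam hW hlam) (ζ := f z) hζ

include hW hlam in
theorem exists_open_subgroup_unipotent (hstar : ∀ (k' : Type u) [Field k'] [Algebra (ResidueField R) k'],
      FiniteDimensional (ResidueField R) k' → ∃ m : ℕ, ∀ ζ : k', ¬ IsPrimitiveRoot ζ (lam ^ m))
    (n : ℕ) (ρ : (Ω ≃ₐ[K] Ω) →* Matrix.GeneralLinearGroup (Fin n) (Padic lam)) (hρ : Continuous ρ) :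
    ∃ I₁ : OpenSubgroup (Ω ≃ₐ[K] Ω), ∀ σ : Ω ≃ₐ[K] Ω, σ ∈ I₁ → SGA7.IsInertia W σ →
      IsNilpotent ((ρ σ : Matrix (Fin n) (Fin n) (Padic lam)) - 1) := by
  classical
  haveI : IsGalois K Ω := inferInstance
  have hs : Stable K W := stable_of_henselian W hW
  have hell := val_lam hW hlam
  obtain ⟨τ, hτ⟩ := exists_char_pow_ne_one hW hlam hstar n.factorial n.factorial_ne_zero
  set c : ℤ_[lam] := (cyclotomicCharacter Ω lam τ.toRingEquiv : ℤ_[lam]) with hcdef
  have hcj : ∀ j ∈ Finset.Icc 1 n, ∃ V, PadicInt.toZModPow V (c ^ j) ≠ 1 := by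
    intro j hj
    by_contra! h
    obtain ⟨e, he⟩ := Nat.dvd_factorial (Finset.mem_Icc.1 hj).1 (Finset.mem_Icc.1 hj).2
    refine hτ ?_
    have hj1 : c ^ j = 1 := PadicInt.ext_of_toZModPow.1 fun m => by rw [h m, map_one]
    rw [he, pow_mul, hj1, one_pow]
  choose! Vj hVj using hcj
  set V := (Finset.Icc 1 n).sup Vj
  -- roots of unity close to `1` are `1`
  let S : Finset (PadicAlgCl lam) := (Polynomial.nthRoots (lam ^ V) (1 : PadicAlgCl lam)).toFinset.erase 1
  obtain ⟨k₀, hk₀1, hk₀⟩ : ∃ k₀, 1 ≤ k₀ ∧ ∀ x ∈ S, eps lam k₀ < ‖x - 1‖ := by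
    have : ∀ x ∈ S, ∃ k, eps lam k < ‖x - 1‖ := fun x hx =>
      exists_eps_lt (norm_pos_iff.2 (sub_ne_zero.2 (Finset.mem_erase.1 hx).1))
    choose! kx hkx using this
    exact ⟨max 1 (S.sup kx), le_max_left _ _, fun x hx =>
      (eps_anti ((Finset.le_sup hx).trans (le_max_right _ _))).trans_lt (hkx x hx)⟩
  let U : ℕ → OpenSubgroup (Ω ≃ₐ[K] Ω) := fun k => ⟨(cong lam n k).comap ρ, (isOpen_cong k).preimage hρ⟩
  obtain ⟨N₁, hN₁⟩ := ProfiniteGrp.exist_openNormalSubgroup_sub_open_nhds_of_one (G := Ω ≃ₐ[K] Ω)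
    (U k₀).isOpen' (U k₀).toSubgroup.one_mem
  refine ⟨N₁.toOpenSubgroup, fun σ hσN hσ => ?_⟩
  have hcong1 : ∀ γ : Ω ≃ₐ[K] Ω, ρ (γ * σ * γ⁻¹) ∈ cong lam n 1 := fun γ => by
    have : ρ (γ * σ * γ⁻¹) ∈ cong lam n k₀ := hN₁ (N₁.isNormal'.conj_mem σ hσN γ)
    exact ⟨this.1.mono (eps_anti hk₀1), this.2.mono (eps_anti hk₀1)⟩
  have hg : ρ σ ∈ cong lam n 1 := by simpa using hcong1 1
  have hev : ∀ i k : ℕ, ∃ γ h : Matrix.GeneralLinearGroup (Fin n) (Padic lam), h ∈ cong lam n (k + 1) ∧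
      γ * ρ σ * γ⁻¹ = (ρ σ) ^ expo lam (τ ^ i) k * h := by
    intro i k
    let τ' := τ ^ i
    let a := expo lam τ' k
    let N : Subgroup (Ω ≃ₐ[K] Ω) := (U (k + 1)).toSubgroup.normalCore
    have hNc : IsClosed (N : Set (Ω ≃ₐ[K] Ω)) :=
      Subgroup.normalCore_isClosed _ (OpenSubgroup.isClosed (U (k + 1)))
    let L : IntermediateField K Ω := IntermediateField.fixedField N
    haveI : Normal K L := by
      rw [IntermediateField.normal_iff_forall_map_le']
      rintro γ _ ⟨x, hx, rfl⟩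
      change γ x ∈ L
      change x ∈ L at hx
      rw [IntermediateField.mem_fixedField_iff] at hx ⊢
      intro h hh
      have := hx (γ⁻¹ * h * γ) (by
        simpa using (Subgroup.normalCore_normal _).conj_mem h hh γ⁻¹)
      rw [AlgEquiv.mul_apply, AlgEquiv.mul_apply] at this
      have := congrArg γ this
      rwa [show ∀ y, γ (γ⁻¹ y) = y from γ.apply_symm_apply] at this
    have hfix : ∀ g : Ω ≃ₐ[K] Ω, g ∈ N ↔ ∀ x ∈ L, g x = x := by
      intro g
      rw [← IntermediateField.mem_fixingSubgroup_iff]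
      rw [show L.fixingSubgroup = N from InfiniteGalois.fixingSubgroup_fixedField ⟨N, hNc⟩]
    have hpow : ∀ g : Ω ≃ₐ[K] Ω, (∀ γ : Ω ≃ₐ[K] Ω, ρ (γ * g * γ⁻¹) ∈ cong lam n 1) → g ^ lam ^ k ∈ N := by
      intro g hg γ
      show ρ (γ * g ^ lam ^ k * γ⁻¹) ∈ cong lam n (k + 1)
      rw [← conj_pow, map_pow]
      exact cong_pow_pow (hg γ) k
    obtain ⟨ζ, hζ⟩ := exists_primitive (R := R) (K := K) hW hlam k
    have hmem : (σ ^ a)⁻¹ * (τ' * σ * τ'⁻¹) ∈ N := by
      refine (hfix _).2 (conj_eq_pow hs hl.out hell L hσ ((hfix _).1 (hpow σ hcong1)) τ' hζ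
        (expo_spec (R := R) hW hlam τ' k hζ.pow_eq_one) (j := k) ((hfix _).1 (hpow _ fun γ => ?_)))
      rw [show γ * ((σ ^ a)⁻¹ * (τ' * σ * τ'⁻¹)) * γ⁻¹ =
        ((γ * σ * γ⁻¹) ^ a)⁻¹ * ((γ * τ') * σ * (γ * τ')⁻¹) by rw [conj_pow]; group, map_mul, map_inv, map_pow]
      exact mul_mem (inv_mem (pow_mem (hcong1 γ) a)) (hcong1 _)
    refine ⟨ρ τ', ρ ((σ ^ a)⁻¹ * (τ' * σ * τ'⁻¹)), ?_, ?_⟩
    · exact Subgroup.normalCore_le (U (k + 1)).toSubgroup hmem
    · show _ = ρ σ ^ a * _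
      rw [← map_pow, ← map_mul, ← map_inv, ← map_mul, ← map_mul, mul_inv_cancel_left]
  refine isNilpotent_sub_one (algebraMap (Padic lam) (PadicAlgCl lam)) _ fun x hx => ?_
  have hxV : x ^ lam ^ V = 1 := by
    refine eigen_pow_eq_one V (fun i k => expo lam (τ ^ i) k) ?_ (ρ σ) hg hev _ (PadicAlgCl.norm_extends lam) x hx
    intro k i₁ i₂ hk hlt hle h0
    simp only [expo_pow, ← hcdef] at h0
    haveI : NeZero (lam ^ k) := ⟨pow_ne_zero _ hl.out.ne_zero⟩
    rw [ZMod.natCast_val, ZMod.natCast_val, PadicInt.cast_toZModPow V k hk, PadicInt.cast_toZModPow V k hk,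
      show i₂ = i₁ + (i₂ - i₁) by omega, pow_add, map_mul] at h0
    have hmem : i₂ - i₁ ∈ Finset.Icc 1 n := Finset.mem_Icc.2 ⟨by omega, by omega⟩
    have hu : IsUnit (PadicInt.toZModPow V (c ^ i₁)) :=
      ((cyclotomicCharacter Ω lam τ.toRingEquiv).isUnit.pow i₁).map _
    refine hVj _ hmem ?_
    rw [← PadicInt.cast_toZModPow (Vj (i₂ - i₁)) V (Finset.le_sup hmem),
      hu.mul_left_cancel (h0.trans (mul_one _).symm)]
    exact ZMod.cast_one (pow_dvd_pow lam (Finset.le_sup hmem))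
  by_contra hx1
  have hmemS : x ∈ S := Finset.mem_erase.2 ⟨hx1, Multiset.mem_toFinset.2
    ((Polynomial.mem_nthRoots (pow_pos hl.out.pos V)).2 hxV)⟩
  have hk : ρ σ ∈ cong lam n k₀ := hN₁ hσN
  refine not_lt.2 ?_ (hk₀ x hmemS)
  refine norm_eigen_sub_one (eps_pos k₀).le (M := (ρ σ : Matrix (Fin n) (Fin n) (Padic lam)).map (algebraMap _ _)) ?_ ?_
  · intro i j
    rw [← Matrix.map_one (algebraMap (Padic lam) (PadicAlgCl lam)) (map_zero _) (map_one _),
      ← Matrix.map_sub _ (map_sub _), Matrix.map_apply]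
    exact (PadicAlgCl.norm_extends lam _).trans_le (hk.1 i j)
  · rw [← Matrix.eval_charpoly, Matrix.charpoly_map]; exact hx

end Groth.Agent.Mono38
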