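import Groth.Agent.Mono38.Val

/-! The Kummer character of inertia for a Galois-stable valuation subring. -/

set_option autoImplicit false
universe u

open IsLocalRing

namespace Groth.Agent.Mono38

variable {K Ω : Type u} [Field K] [Field Ω] [Algebra K Ω] [Algebra.IsAlgebraic K Ω]
  (W : ValuationSubring Ω)

/-- Every automorphism preserves `W`. -/
def Stable (K : Type u) [Field K] [Algebra K Ω] (W : ValuationSubring Ω) : Prop :=
  ∀ (τ : Ω ≃ₐ[K] Ω) (x : Ω), x ∈ W → τ x ∈ W

theorem stable_of_henselian {R : Type u} [CommRing R] [IsDomain R] [IsDiscreteValuationRing R]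
    [HenselianLocalRing R] [Algebra R K] [IsFractionRing R K] [Algebra R Ω] [IsScalarTower R K Ω]
    (hW : SGA7.LiesOver K R W) : Stable K W := fun τ x hx => by
  rw [mem_iff_isIntegral W hW] at hx ⊢
  exact hx.map (τ.toAlgHom.restrictScalars R)

variable {W} (hs : Stable K W)

include hs in
theorem mem_iff (τ : Ω ≃ₐ[K] Ω) (x : Ω) : τ x ∈ W ↔ x ∈ W :=
  ⟨fun h => by simpa using hs τ.symm _ h, hs τ x⟩

include hs in
theorem val_lt_one (τ : Ω ≃ₐ[K] Ω) {x : Ω} (hx : W.valuation x < 1) : W.valuation (τ x) < 1 := by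
  by_contra! h
  rcases eq_or_ne x 0 with rfl | hx0
  · simp at h
  have h1 : (τ x)⁻¹ ∈ W := (W.valuation_le_one_iff _).1 (by rw [map_inv₀]; exact inv_le_one_of_one_le₀ h)
  rw [← map_inv₀, mem_iff hs, ← W.valuation_le_one_iff, map_inv₀] at h1
  exact absurd h1 (not_le.2 ((one_lt_inv₀ ((pos_iff_ne_zero).2 (by simpa using hx0))).2 hx))

include hs in
/-- The valuation is invariant. -/
theorem val_eq (τ : Ω ≃ₐ[K] Ω) (x : Ω) : W.valuation (τ x) = W.valuation x := by
  classical
  have hfin : {y : Ω | ∃ i : ℕ, (τ ^ i) x = y}.Finite := by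
    refine ((minpoly K x).rootSet Ω).toFinite.subset ?_
    rintro _ ⟨i, rfl⟩
    rw [Polynomial.mem_rootSet]
    exact ⟨minpoly.ne_zero (Algebra.IsIntegral.isIntegral x), by
      rw [Polynomial.aeval_algHom_apply, minpoly.aeval, map_zero]⟩
  -- if the valuation strictly increased it would do so along the whole orbit
  have key : ∀ σ : Ω ≃ₐ[K] Ω, {y : Ω | ∃ i : ℕ, (σ ^ i) x = y}.Finite → ¬ W.valuation x < W.valuation (σ x) := by
    intro σ hf hlt
    have hmono : ∀ a b, W.valuation a < W.valuation b → W.valuation (σ a) < W.valuation (σ b) := by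
      intro a b h
      have hb : W.valuation b ≠ 0 := ne_of_gt (lt_of_le_of_lt zero_le h)
      have h1 : W.valuation (a / b) < 1 := by rwa [map_div₀, div_lt_one₀ (pos_iff_ne_zero.2 hb)]
      have h2 := val_lt_one hs σ h1
      have hb' : W.valuation (σ b) ≠ 0 := by
        rw [Valuation.ne_zero_iff] at hb ⊢
        simpa using hb
      rwa [map_div₀, map_div₀, div_lt_one₀ (pos_iff_ne_zero.2 hb')] at h2
    have hinc : StrictMono fun i : ℕ => W.valuation ((σ ^ i) x) := by
      refine strictMono_nat_of_lt_succ fun i => ?_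
      induction i with
      | zero => simpa using hlt
      | succ i ih =>
        rw [pow_succ' σ (i + 1), AlgEquiv.mul_apply]
        conv_lhs => rw [pow_succ', AlgEquiv.mul_apply]
        exact hmono _ _ ih
    have := (Set.infinite_range_of_injective hinc.injective).mono
      (show Set.range (fun i : ℕ => W.valuation ((σ ^ i) x)) ⊆ W.valuation '' {y | ∃ i : ℕ, (σ ^ i) x = y} from
        Set.range_subset_iff.2 fun i => ⟨_, ⟨i, rfl⟩, rfl⟩)
    exact this (hf.image _)
  rcases lt_trichotomy (W.valuation x) (W.valuation (τ x)) with h | h | h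
  · exact absurd h (key τ hfin)
  · exact h.symm
  · refine absurd ?_ (key τ.symm ?_)
    · by_contra hc
      have hb : W.valuation x ≠ 0 := ne_of_gt (lt_of_le_of_lt zero_le h)
      have h2 : τ.symm x / x ∈ W := by
        rw [← W.valuation_le_one_iff, map_div₀, div_le_one₀ (pos_iff_ne_zero.2 hb)]; exact not_lt.1 hc
      have h3 := hs τ _ h2
      rw [map_div₀, τ.apply_symm_apply, ← W.valuation_le_one_iff, map_div₀, div_le_one₀] at h3
      · exact absurd h3 (not_le.2 h)
      · rw [pos_iff_ne_zero, Valuation.ne_zero_iff]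
        rw [Valuation.ne_zero_iff] at hb
        simpa using hb
    · refine ((minpoly K x).rootSet Ω).toFinite.subset ?_
      rintro _ ⟨i, rfl⟩
      rw [Polynomial.mem_rootSet]
      exact ⟨minpoly.ne_zero (Algebra.IsIntegral.isIntegral x), by
        rw [Polynomial.aeval_algHom_apply, minpoly.aeval, map_zero]⟩

variable (W)

/-- `σ x / x`, an element of `W`. -/
noncomputable def ratio (σ : Ω ≃ₐ[K] Ω) (x : Ω) : W :=
  ⟨σ x / x, (W.valuation_le_one_iff _).1 (by
    rw [map_div₀, val_eq hs]; exact div_self_le_one _)⟩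

variable {W}

theorem ratio_mul (σ τ : Ω ≃ₐ[K] Ω) {x : Ω} (hx : x ≠ 0) :
    ratio W hs (σ * τ) x = ratio W hs σ (τ x) * ratio W hs τ x := by
  apply Subtype.ext
  show σ (τ x) / x = σ (τ x) / τ x * (τ x / x)
  rw [div_mul_div_cancel₀ (by simpa using hx)]

/-- The residue of `σ x / x`. -/
noncomputable def theta (σ : Ω ≃ₐ[K] Ω) (x : Ω) : ResidueField W := residue W (ratio W hs σ x)

include hs in
theorem isUnit_div (τ : Ω ≃ₐ[K] Ω) {x : Ω} (hx : x ≠ 0) : W.valuation (τ x / x) = 1 := by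
  rw [map_div₀, val_eq hs, div_self (by simpa using hx)]

theorem theta_of_val_one {σ : Ω ≃ₐ[K] Ω} (hσ : SGA7.IsInertia W σ) {x : Ω} (hx : W.valuation x = 1) :
    theta hs σ x = 1 := by
  have hxW : x ∈ W := (W.valuation_le_one_iff _).1 hx.le
  have hx0 : x ≠ 0 := fun h => by simp [h] at hx
  rw [theta, ← map_one (residue W), ← sub_eq_zero, ← map_sub, residue_eq_zero_iff,
    ValuationSubring.valuation_lt_one_iff]
  show W.valuation (σ x / x - 1) < 1
  rw [div_sub_one hx0, map_div₀, hx, div_one]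
  exact (hσ x hxW).2

theorem theta_congr {σ : Ω ≃ₐ[K] Ω} (hσ : SGA7.IsInertia W σ) {x y : Ω} (hx : x ≠ 0)
    (h : W.valuation y = W.valuation x) : theta hs σ y = theta hs σ x := by
  have hy : y ≠ 0 := fun h0 => hx (by
    rw [h0, map_zero] at h
    exact W.valuation.zero_iff.1 h.symm)
  have h1 : W.valuation (y / x) = 1 := by rw [map_div₀, h, div_self (by simpa using hx)]
  have : ratio W hs σ y = ratio W hs σ x * ratio W hs σ (y / x) := by
    apply Subtype.ext
    show σ y / y = σ x / x * (σ (y / x) / (y / x))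
    have : σ x ≠ 0 := by simpa using hx
    rw [map_div₀]
    field_simp
  rw [theta, this, map_mul]
  show theta hs σ x * theta hs σ (y / x) = _
  rw [theta_of_val_one hs hσ h1, mul_one]

theorem theta_mul {σ : Ω ≃ₐ[K] Ω} (hσ : SGA7.IsInertia W σ) (τ : Ω ≃ₐ[K] Ω) {x : Ω} (hx : x ≠ 0) :
    theta hs (σ * τ) x = theta hs σ x * theta hs τ x := by
  rw [theta, ratio_mul hs σ τ hx, map_mul]
  congr 1
  exact theta_congr hs hσ hx (val_eq hs τ x)

theorem theta_one {x : Ω} (hx : x ≠ 0) : theta hs 1 x = 1 := by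
  rw [theta, ← map_one (residue W)]
  congr 1
  apply Subtype.ext
  exact div_self hx

theorem theta_conj {σ : Ω ≃ₐ[K] Ω} (hσ : SGA7.IsInertia W σ) (τ : Ω ≃ₐ[K] Ω) {x : Ω} (hx : x ≠ 0)
    {a : W} (ha : residue W a = theta hs σ x) :
    theta hs (τ * σ * τ⁻¹) x = residue W ⟨τ (a : Ω), hs τ _ a.2⟩ := by
  have hy : τ⁻¹ x ≠ 0 := by simpa using hx
  have h1 := theta_congr hs hσ hx (y := τ⁻¹ x) (val_eq hs _ x)
  rw [← ha, theta, ← sub_eq_zero, ← map_sub, residue_eq_zero_iff, ValuationSubring.valuation_lt_one_iff] at h1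
  rw [theta, ← sub_eq_zero, ← map_sub, residue_eq_zero_iff, ValuationSubring.valuation_lt_one_iff]
  convert val_lt_one hs τ h1 using 2
  show τ (σ (τ⁻¹ x)) / x - τ a = τ (σ (τ⁻¹ x) / τ⁻¹ x - a)
  rw [map_sub, map_div₀, show τ (τ⁻¹ x) = x from τ.apply_symm_apply x]

theorem IsInertia.one : SGA7.IsInertia W (1 : Ω ≃ₐ[K] Ω) := fun x hx => ⟨hx, by simp⟩

theorem IsInertia.mul {σ τ : Ω ≃ₐ[K] Ω} (h : SGA7.IsInertia W σ) (h' : SGA7.IsInertia W τ) :
    SGA7.IsInertia W (σ * τ) := fun x hx => ⟨(h _ (h' x hx).1).1, by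
  have : σ (τ x) - x = (σ (τ x) - τ x) + (τ x - x) := by ring
  show W.valuation (σ (τ x) - x) < 1
  rw [this]
  exact W.valuation.map_add_lt (h _ (h' x hx).1).2 (h' x hx).2⟩

include hs in
theorem IsInertia.inv {σ : Ω ≃ₐ[K] Ω} (h : SGA7.IsInertia W σ) : SGA7.IsInertia W σ⁻¹ := fun x hx => by
  refine ⟨hs _ x hx, ?_⟩
  have := (h _ (hs σ⁻¹ x hx)).2
  rw [show σ (σ⁻¹ x) = x from σ.apply_symm_apply x, W.valuation.map_sub_swap] at this
  exact this

theorem IsInertia.pow {σ : Ω ≃ₐ[K] Ω} (h : SGA7.IsInertia W σ) (i : ℕ) : SGA7.IsInertia W (σ ^ i) := by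
  induction i with
  | zero => rw [pow_zero]; exact IsInertia.one
  | succ i ih => rw [pow_succ]; exact IsInertia.mul ih h

include hs in
theorem IsInertia.conj {σ : Ω ≃ₐ[K] Ω} (h : SGA7.IsInertia W σ) (τ : Ω ≃ₐ[K] Ω) :
    SGA7.IsInertia W (τ * σ * τ⁻¹) := fun x hx => by
  refine ⟨hs τ _ (h _ (hs τ⁻¹ x hx)).1, ?_⟩
  have := val_lt_one hs τ (h _ (hs τ⁻¹ x hx)).2
  rwa [map_sub, show τ (τ⁻¹ x) = x from τ.apply_symm_apply x] at this

theorem theta_pow {σ : Ω ≃ₐ[K] Ω} (hσ : SGA7.IsInertia W σ) {x : Ω} (hx : x ≠ 0) (i : ℕ) :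
    theta hs (σ ^ i) x = theta hs σ x ^ i := by
  induction i with
  | zero => rw [pow_zero, pow_zero]; exact theta_one hs hx
  | succ i ih => rw [pow_succ, pow_succ, theta_mul hs (IsInertia.pow hσ i) σ hx, ih]

/-- Automorphisms with trivial Kummer character have no non-trivial `ℓ`-power order. -/
theorem kill (ell : ℕ) (hell : W.valuation (ell : Ω) = 1) (L : IntermediateField K Ω)
    {g : Ω ≃ₐ[K] Ω} (hg : SGA7.IsInertia W g) (hgL : ∀ x ∈ L, g x ∈ L)
    (hθ : ∀ x ∈ L, x ≠ 0 → theta hs g x = 1) :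
    ∀ (j : ℕ), (∀ x ∈ L, (g ^ ell ^ j) x = x) → ∀ x ∈ L, g x = x := by
  intro j
  induction j with
  | zero => intro h; simpa using h
  | succ j ih =>
    intro h
    refine ih fun x hx => ?_
    set g' := g ^ ell ^ j with hg'
    have hpL : ∀ i : ℕ, ∀ z ∈ L, (g ^ i) z ∈ L := fun i => by
      induction i with
      | zero => simp
      | succ i ihi => intro z hz; rw [pow_succ, AlgEquiv.mul_apply]; exact ihi _ (hgL z hz)
    have hg'I : SGA7.IsInertia W g' := IsInertia.pow hg _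
    have hell0 : (ell : Ω) ≠ 0 := fun h0 => by simp [h0] at hell
    set avg := (ell : Ω)⁻¹ * ∑ i ∈ Finset.range ell, (g' ^ i) x with havg
    have hfix : g' avg = avg := by
      rw [havg, map_mul, map_inv₀, map_natCast, map_sum]
      congr 1
      simp only [← AlgEquiv.mul_apply, ← pow_succ']
      refine add_right_cancel (b := (g' ^ 0) x) ?_
      rw [← Finset.sum_range_succ' (fun i => (g' ^ i) x), Finset.sum_range_succ]
      congr 1
      rw [hg', ← pow_mul, ← pow_succ, h x hx]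
      simp
    have havgL : avg ∈ L := by
      refine L.mul_mem (L.inv_mem (natCast_mem L ell)) (L.sum_mem fun i _ => ?_)
      rw [hg', ← pow_mul]; exact hpL _ x hx
    by_cases hz : x - avg = 0
    · rw [sub_eq_zero.1 hz]; exact hfix
    exfalso
    set z := x - avg with hzdef
    have hzL : z ∈ L := L.sub_mem hx havgL
    have hfix' : ∀ i : ℕ, (g' ^ i) avg = avg := fun i => by
      induction i with
      | zero => simp
      | succ i ihi => rw [pow_succ, AlgEquiv.mul_apply, hfix, ihi]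
    have hsum : ∑ i ∈ Finset.range ell, (g' ^ i) z / z = 0 := by
      rw [← Finset.sum_div]
      simp only [hzdef, map_sub, hfix', Finset.sum_sub_distrib, Finset.sum_const, Finset.card_range, nsmul_eq_mul]
      rw [havg, mul_inv_cancel_left₀ hell0, sub_self, zero_div]
    have h1 : ∀ i : ℕ, residue W (ratio W hs (g' ^ i) z) = 1 := fun i => by
      show theta hs (g' ^ i) z = 1
      rw [hg', ← pow_mul, theta_pow hs hg hz, hθ z hzL hz, one_pow]
    have h2 : residue W (∑ i ∈ Finset.range ell, ratio W hs (g' ^ i) z) = (ell : ResidueField W) := by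
      rw [map_sum]; simp [h1]
    rw [show (∑ i ∈ Finset.range ell, ratio W hs (g' ^ i) z) = 0 from Subtype.ext (by
      push_cast; exact hsum), map_zero, ← map_natCast (residue W), eq_comm, residue_eq_zero_iff,
      ValuationSubring.valuation_lt_one_iff] at h2
    simp [hell] at h2

theorem residue_primitive {ell : ℕ} (hp : ell.Prime) (hell : W.valuation (ell : Ω) = 1) {k : ℕ} {ζ : W}
    (hζ : IsPrimitiveRoot (ζ : Ω) (ell ^ k)) : IsPrimitiveRoot (residue W ζ) (ell ^ k) := by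
  have hζ' : IsPrimitiveRoot ζ (ell ^ k) := IsPrimitiveRoot.of_map_of_injective (f := W.subtype) hζ Subtype.val_injective
  cases k with
  | zero =>
    rw [pow_zero] at hζ' ⊢
    rw [IsPrimitiveRoot.one_right_iff] at hζ' ⊢
    rw [hζ', map_one]
  | succ k =>
    refine IsPrimitiveRoot.iff_orderOf.2 ?_
    haveI := Fact.mk hp
    refine orderOf_eq_prime_pow ?_ (by rw [← map_pow, hζ'.pow_eq_one, map_one])
    intro h1
    have hη : IsPrimitiveRoot (ζ ^ ell ^ k) ell := hζ'.pow (pow_pos hp.pos _) (pow_succ _ _)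
    have hsum := hη.geom_sum_eq_zero hp.one_lt
    have := congrArg (residue W) hsum
    rw [map_sum, map_zero] at this
    simp only [map_pow, h1, one_pow, Finset.sum_const, Finset.card_range, nsmul_one] at this
    rw [← map_natCast (residue W), residue_eq_zero_iff, ValuationSubring.valuation_lt_one_iff] at this
    simp [hell] at this

include hs in
/-- The main congruence: `τ σ τ⁻¹` and `σ ^ a` agree on `L`. -/
theorem conj_eq_pow {ell : ℕ} (hp : ell.Prime) (hell : W.valuation (ell : Ω) = 1) (L : IntermediateField K Ω)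
    [Normal K L] {k : ℕ} {σ : Ω ≃ₐ[K] Ω} (hσ : SGA7.IsInertia W σ) (hord : ∀ x ∈ L, (σ ^ ell ^ k) x = x)
    (τ : Ω ≃ₐ[K] Ω) {ζ : Ω} (hζ : IsPrimitiveRoot ζ (ell ^ k)) {a : ℕ} (hτ : τ ζ = ζ ^ a)
    {j : ℕ} (hj : ∀ x ∈ L, (((σ ^ a)⁻¹ * (τ * σ * τ⁻¹)) ^ ell ^ j) x = x) :
    ∀ x ∈ L, ((σ ^ a)⁻¹ * (τ * σ * τ⁻¹)) x = x := by
  have hone : W.valuation ζ = 1 :=
    (pow_eq_one_iff.mp (show W.valuation ζ ^ (ell ^ k) = 1 by rw [← map_pow, hζ.pow_eq_one, map_one])).resolve_right
      (pow_ne_zero _ hp.ne_zero)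
  let ζ' : W := ⟨ζ, (W.valuation_le_one_iff _).1 hone.le⟩
  have hres := residue_primitive hp hell (ζ := ζ') hζ
  haveI : NeZero (ell ^ k) := ⟨pow_ne_zero _ hp.ne_zero⟩
  have hI := IsInertia.inv hs (IsInertia.pow hσ a)
  refine kill hs ell hell L (IsInertia.mul hI (IsInertia.conj hs hσ τ)) ?_ ?_ j hj
  · intro x hx
    have := AlgEquiv.restrictNormal_commutes ((σ ^ a)⁻¹ * (τ * σ * τ⁻¹)) L ⟨x, hx⟩
    exact this ▸ ((((σ ^ a)⁻¹ * (τ * σ * τ⁻¹)).restrictNormal L) ⟨x, hx⟩).2
  · intro x hx hx0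
    have h1 : theta hs σ x ^ ell ^ k = 1 := by
      rw [← theta_pow hs hσ hx0, theta, ← map_one (residue W)]
      congr 1
      apply Subtype.ext
      show (σ ^ ell ^ k) x / x = 1
      rw [hord x hx, div_self hx0]
    obtain ⟨i, -, hi⟩ := hres.eq_pow_of_pow_eq_one h1
    rw [theta_mul hs hI _ hx0, theta_conj hs hσ τ hx0 (a := ζ' ^ i) (by rw [map_pow, hi]),
      show (⟨τ ((ζ' ^ i : W) : Ω), _⟩ : W) = ζ' ^ (a * i) from Subtype.ext (by
        push_cast; simp [ζ', map_pow, hτ, ← pow_mul]), map_pow, mul_comm a i, pow_mul, hi]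
    rw [← theta_pow hs hσ hx0, ← theta_mul hs hI _ hx0, inv_mul_cancel, theta_one hs hx0]

end Groth.Agent.Mono38
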