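import Groth.Prelude.Def_SGA7a
import Groth.Agent.WE91.LocalIntegral
import Mathlib

/-! The unique extension of a henselian discrete valuation and the Kummer character of inertia. -/

set_option autoImplicit false
universe u

open Polynomial IsLocalRing

namespace Groth.Agent.Mono38

variable {R K Ω : Type u} [CommRing R] [IsDomain R] [IsDiscreteValuationRing R]
  [Field K] [Algebra R K] [IsFractionRing R K] [Field Ω] [Algebra K Ω] [Algebra R Ω] [IsScalarTower R K Ω]
  (W : ValuationSubring Ω)

theorem mem_of_isIntegral (hW : SGA7.LiesOver K R W) {z : Ω} (hz : IsIntegral R z) : z ∈ W := by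
  let _ : Algebra R W := ((algebraMap R Ω).codRestrict W.toSubring fun r => by
    rw [IsScalarTower.algebraMap_apply R K Ω]; exact hW.1 r).toAlgebra
  have : IsScalarTower R W Ω := IsScalarTower.of_algebraMap_eq fun x => rfl
  obtain ⟨w, hw⟩ := (IsIntegrallyClosed.isIntegral_iff (R := W)).mp hz.tower_top
  exact hw ▸ w.2

/-- A root of a primitive polynomial over the (local) integral closure is integral, or its inverse is. -/
theorem mem_or_inv [IsLocalRing (integralClosure R Ω)] (x : Ω) : ∀ (n : ℕ) (a : ℕ → integralClosure R Ω),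
    ∑ i ∈ Finset.range (n + 1), (a i : Ω) * x ^ i = 0 → (∃ i ≤ n, IsUnit (a i)) →
    IsIntegral R x ∨ ∃ y : integralClosure R Ω, x * (y : Ω) = 1 := by
  intro n
  induction n with
  | zero =>
    intro a ha ⟨i, hi, hu⟩
    obtain rfl : i = 0 := by omega
    exact absurd (Subtype.ext (by simpa using ha)) hu.ne_zero
  | succ n ih =>
    intro a ha ⟨i, hi, hu⟩
    let S := integralClosure R Ω
    have hlead : IsIntegral R ((a (n + 1) : Ω) * x) := by
      have hint : IsIntegral S ((a (n + 1) : Ω) * x) := by
        by_cases h0 : a (n + 1) = 0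
        · rw [h0]; simp [isIntegral_zero]
        · let p : S[X] := ∑ i ∈ Finset.range (n + 2), monomial i (a i)
          have hc : ∀ i, p.coeff i = if i ≤ n + 1 then a i else 0 := fun i => by
            simp [p, coeff_monomial, Nat.lt_succ_iff]
          have hd : p.natDegree = n + 1 := natDegree_eq_of_le_of_coeff_ne_zero
            (natDegree_le_iff_coeff_eq_zero.2 fun i hi => by rw [hc, if_neg (by omega)])
            (by rw [hc, if_pos le_rfl]; exact h0)
          have := isIntegral_leadingCoeff_smul (R := S) p x (by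
            rw [map_sum, ← ha]; simp [aeval_monomial])
          rwa [leadingCoeff, hd, hc, if_pos le_rfl] at this
      exact isIntegral_trans _ hint
    let b : S := ⟨_, hlead⟩
    let a' : ℕ → S := fun i => if i = n then a n + b else a i
    have ha' : ∑ i ∈ Finset.range (n + 1), (a' i : Ω) * x ^ i = 0 := by
      rw [← ha, Finset.sum_range_succ _ (n + 1), Finset.sum_range_succ, Finset.sum_range_succ,
        Finset.sum_congr rfl (fun i hi => by simp [a', (Finset.mem_range.1 hi).ne] :
          ∀ i ∈ Finset.range n, (a' i : Ω) * x ^ i = (a i : Ω) * x ^ i)]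
      simp [a', b, pow_succ]
      ring
    by_cases h : ∃ i ≤ n, IsUnit (a' i)
    · exact ih a' ha' h
    push Not at h
    rcases eq_or_ne i (n + 1) with rfl | hne
    · left
      obtain ⟨v, hv⟩ := hu.exists_left_inv
      have : (v : Ω) * (a (n + 1) : Ω) = 1 := congrArg Subtype.val hv
      rw [show x = (v : Ω) * (b : Ω) by simp only [b]; linear_combination -x * this]
      exact (v * b).2
    · have hin : i = n := by
        by_contra hin
        exact h i (by omega) (by simpa [a', hin] using hu)
      subst hin
      have hb : IsUnit b := by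
        by_contra hb
        have h1 := h i le_rfl
        simp only [a', if_pos] at h1
        have := nonunits_add (a := a i + b) (b := -b) h1 (by rwa [mem_nonunits_iff, IsUnit.neg_iff])
        rw [add_neg_cancel_right] at this
        exact this hu
      right
      obtain ⟨v, hv⟩ := hb.exists_left_inv
      refine ⟨v * a (i + 1), ?_⟩
      have : (v : Ω) * ((a (i + 1) : Ω) * x) = 1 := congrArg Subtype.val hv
      push_cast
      linear_combination this

variable [HenselianLocalRing R] [Algebra.IsAlgebraic K Ω]

theorem mem_iff_isIntegral (hW : SGA7.LiesOver K R W) (x : Ω) : x ∈ W ↔ IsIntegral R x := by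
  refine ⟨fun hx => ?_, mem_of_isIntegral W hW⟩
  have hS : IsLocalRing (integralClosure R Ω) :=
    WE91.isLocalRing_of_isIntegral_of_isDomain R (integralClosure R Ω)
  let S := integralClosure R Ω
  have hRS : ∀ r ∈ maximalIdeal R, algebraMap R S r ∈ maximalIdeal S := by
    intro r hr hu
    obtain ⟨s, hs⟩ := hu.exists_left_inv
    have h1 := congrArg (fun z : S => W.valuation (z : Ω)) hs
    have hs1 : W.valuation (s : Ω) ≤ 1 := (W.valuation_le_one_iff _).2 (mem_of_isIntegral W hW s.2)
    have hr1 : W.valuation (algebraMap R Ω r) < 1 := by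
      rw [IsScalarTower.algebraMap_apply R K Ω]; exact hW.2 r hr
    simp only [MulMemClass.coe_mul, map_mul, OneMemClass.coe_one, map_one] at h1
    exact absurd h1 (ne_of_lt (lt_of_le_of_lt (mul_le_of_le_one_left' hs1) hr1))
  have hQ : ∀ s : S, s ∈ maximalIdeal S → W.valuation (s : Ω) < 1 := by
    intro s hs
    let f : S →+* W := S.val.toRingHom.codRestrict W.toSubring fun z => mem_of_isIntegral W hW z.2
    have hP : ((maximalIdeal W).comap f).IsMaximal := by
      have : ((maximalIdeal W).comap f).IsPrime := Ideal.IsPrime.comap _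
      refine Ideal.isMaximal_of_isIntegral_of_isMaximal_comap (R := R) _ ?_
      convert maximalIdeal.isMaximal R
      refine ((maximalIdeal.isMaximal R).eq_of_le (Ideal.comap_ne_top _ this.ne_top) fun r hr => ?_).symm
      rw [Ideal.mem_comap, Ideal.mem_comap, ValuationSubring.valuation_lt_one_iff]
      show W.valuation (algebraMap R Ω r) < 1
      rw [IsScalarTower.algebraMap_apply R K Ω]; exact hW.2 r hr
    rw [← IsLocalRing.eq_maximalIdeal hP] at hs
    exact (W.valuation_lt_one_iff (f s)).1 hs
  have : Module.IsTorsionFree R Ω := by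
    refine Module.IsTorsionFree.trans_faithfulSMul R K Ω
  obtain ⟨p, hp0, hp⟩ : ∃ p : R[X], p ≠ 0 ∧ aeval x p = 0 := by
    obtain ⟨q, hq0, hq⟩ := (IsFractionRing.isAlgebraic_iff R K Ω).2 (Algebra.IsAlgebraic.isAlgebraic (R := K) x)
    exact ⟨q, hq0, hq⟩
  -- make the polynomial primitive
  obtain ⟨q, hq, j, hj⟩ : ∃ q : R[X], aeval x q = 0 ∧ ∃ j, IsUnit (q.coeff j) := by
    obtain ⟨ϖ, hϖ⟩ := IsDiscreteValuationRing.exists_irreducible R
    obtain ⟨_⟩ := (inferInstance : Nonempty (NormalizedGCDMonoid R))
    have hne : p.content ≠ 0 := by simpa [content_eq_zero_iff] using hp0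
    refine ⟨p.primPart, ?_, ?_⟩
    · exact aeval_primPart_eq_zero hp0 hp
    · by_contra! hcon
      have h1 : C ϖ ∣ p.primPart := by
        rw [C_dvd_iff_dvd_coeff]
        intro i
        have := (IsLocalRing.mem_maximalIdeal _).2 (hcon i)
        rwa [hϖ.maximalIdeal_eq, Ideal.mem_span_singleton] at this
      exact hϖ.not_isUnit (p.isPrimitive_primPart ϖ h1)
  let a : ℕ → S := fun i => algebraMap R S (q.coeff i)
  have hsum : ∑ i ∈ Finset.range (q.natDegree + 1), ((a i : S) : Ω) * x ^ i = 0 := by
    rw [← hq, aeval_eq_sum_range]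
    simp [a, Algebra.smul_def]
  rcases mem_or_inv (R := R) x q.natDegree a hsum ⟨j, le_natDegree_of_ne_zero hj.ne_zero, hj.map _⟩ with h | ⟨y, hy⟩
  · exact h
  · by_cases hu : IsUnit y
    · obtain ⟨y, rfl⟩ := hu
      have h2 : ((y : S) : Ω) * ((↑y⁻¹ : S) : Ω) = 1 := congrArg Subtype.val y.mul_inv
      rw [show x = ((↑y⁻¹ : S) : Ω) by linear_combination ((↑y⁻¹ : S) : Ω) * hy - x * h2]
      exact (↑y⁻¹ : S).2
    · have h1 : W.valuation x * W.valuation (y : Ω) = 1 := by rw [← map_mul, hy, map_one]
      exact absurd h1 (ne_of_lt (lt_of_le_of_lt (mul_le_of_le_one_left' ((W.valuation_le_one_iff x).2 hx))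
        (hQ y hu)))

end Groth.Agent.Mono38
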